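import Mathlib
import Cfsg.Agent.Lib.Atk.Base

/-! Atkinson: an abelian normal subgroup of the point stabiliser with orbits of size `p`. -/

set_option autoImplicit false
set_option linter.unusedSectionVars false

namespace CfsgLib.Atk

open Subgroup MulAction CfsgLib.Perm CfsgLib.Kim
open scoped Pointwise

variable {G : Type*} {Ω : Type*} [Group G] [MulAction G Ω] [Finite G] [Finite Ω]
  {p : ℕ} {a : Ω} {Q : Subgroup G}

/-- an abelian normal subgroup of the stabiliser of `a` with orbits of size `p` -/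
structure ASys (a : Ω) (Q : Subgroup G) (p : ℕ) : Prop where
  nrm : Nrm a Q
  card : ∀ x, x ≠ a → (orb Q x).ncard = p
  comm : ∀ x ∈ Q, ∀ y ∈ Q, x * y = y * x

theorem fix_orb {g : G} (hg : ∀ n ∈ Q, n * g = g * n) {x : Ω} (e : g • x = x) :
    ∀ y ∈ orb Q x, g • y = y := by
  rintro _ ⟨n, hn, rfl⟩
  exact smul_fix_of_comm (hg n hn) e

theorem swap_conj {σ u : G} {a b : Ω} (h1 : σ • a = b) (h2 : σ • b = a) (ha : u • a = a)
    (hb : u • b = b) : (σ * u * σ⁻¹) • a = a ∧ (σ * u * σ⁻¹) • b = b :=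
  ⟨by rw [← h2, conj_smul, hb], by rw [← h1, conj_smul, ha]⟩

theorem stab_eq {N : Subgroup G} (hp : 0 < p) (h : ∀ x, x ≠ a → (orb N x).ncard = p) {x y : Ω}
    (hx : x ≠ a) (hy : y ≠ a) (e : ∀ n ∈ N, n • x = x → n • y = y) :
    ∀ n ∈ N, n • y = y → n • x = x := by
  have e1 := orb_card N x
  have e2 := orb_card N y
  rw [h x hx] at e1
  rw [h y hy, ← e1] at e2
  have := eq_of_le_of_card_ge (H := N ⊓ stabilizer G x) (K := N ⊓ stabilizer G y)
    (fun n hn => ⟨hn.1, e n hn.1 hn.2⟩) (Nat.eq_of_mul_eq_mul_left hp e2).le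
  intro n hn e3
  exact (this.symm ▸ (⟨hn, e3⟩ : n ∈ N ⊓ stabilizer G y) : n ∈ N ⊓ stabilizer G x).2

/-- the points fixed by the stabiliser of `b` form a block -/
theorem Nrm.blk_fix {N : Subgroup G} (hN : Nrm a N) (hp : 0 < p)
    (h : ∀ x, x ≠ a → (orb N x).ncard = p) {b : Ω} (hb : b ≠ a) :
    Blk G a {x | x ≠ a ∧ ∀ n ∈ N, n • b = b → n • x = x} := by
  refine ⟨fun e => e.1 rfl, fun g hg x hx e y hy => ⟨smul_ne hg hy.1, fun n hn e1 => ?_⟩⟩
  have e2 := hN.norm g⁻¹ (inv_smul_eq_iff.2 hg.symm) n hn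
  have := hy.2 _ e2 (stab_eq hp h hb hx.1 hx.2 _ e2 (by
    rw [inv_inv, mul_smul, mul_smul, e.2 n hn e1, inv_smul_smul]))
  rwa [inv_inv, mul_smul, mul_smul, inv_smul_eq_iff] at this

namespace ASys

variable (c : Ctx G Ω p) (h : ASys a Q p)
include c h

theorem pow_fix {n : G} (hn : n ∈ Q) {x : Ω} (hx : x ≠ a) : n ^ p • x = x := by
  have : ((stabilizer G x).subgroupOf Q).Normal :=
    ⟨fun u hu g => by
      rwa [show g * u * g⁻¹ = u from Subtype.ext (by
        rw [coe_mul, coe_mul, h.comm _ g.2 _ u.2, coe_inv, mul_inv_cancel_right])]⟩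
  have e := pow_index_mem ((stabilizer G x).subgroupOf Q) ⟨n, hn⟩
  have e1 := relIndex_mul_card_inf (stabilizer G x) Q
  rw [← orb_card Q x, h.card x hx, inf_comm] at e1
  rw [← relIndex, Nat.eq_of_mul_eq_mul_right Nat.card_pos e1] at e
  exact e

theorem semireg {n : G} (hn : n ∈ Q) {b : Ω} (hb : b ≠ a) (e : n • b = b) : n = 1 := by
  by_contra h1
  have hΦ := h.nrm.blk_fix c.hp.pos h.card hb
  have hBΦ : orb Q b ⊆ {x | x ≠ a ∧ ∀ n ∈ Q, n • b = b → n • x = x} := fun x hx =>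
    ⟨h.nrm.ne_of_mem hb hx, fun n hn e => fix_orb (fun m hm => h.comm m hm n hn) e x hx⟩
  obtain ⟨z, hz, e1⟩ : ∃ z, z ≠ a ∧ n • z ≠ z := by
    by_contra e1
    push Not at e1
    exact h1 (c.eq_one (h.nrm.le n hn) e1)
  have e2 := Set.eq_of_subset_of_ncard_le hBΦ (by
    rw [c.blk_card hΦ ((h.card b hb ▸ c.hp.one_lt).trans_le (Set.ncard_le_ncard hBΦ)) hz
      fun e2 => e1 (e2.2 n hn e), h.card b hb])
  obtain ⟨σ, s1, s2⟩ := exists_smul_pair c.two hb.symm hb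
  have s3 : σ⁻¹ • a = b := inv_smul_eq_iff.2 s2.symm
  refine c.steiner (h.nrm.blk hb) (h.card b hb) (g := σ⁻¹) ?_ (s3 ▸ hb)
  rintro x (rfl | hx)
  · exact Or.inr (s3 ▸ mem_orb_self Q b)
  by_cases e3 : σ⁻¹ • x = a
  · exact Or.inl e3
  refine Or.inr (e2 ▸ ⟨e3, fun u hu e4 => ?_⟩)
  obtain ⟨f1, f2⟩ := swap_conj s1 s2 (h.nrm.le u hu) e4
  have := fix_all c.hp (h.card b hb) (g := σ * u * σ⁻¹) (k := 1)
    (fun y hy => f2 ▸ h.nrm.smul_mem f1 hy) (fun y _ => by
      rw [pow_one, conj_pow, c.eq_one ((stabilizer G a).pow_mem (h.nrm.le u hu) p)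
        fun y hy => h.pow_fix c hu hy]
      simp) (mem_orb_self Q b) f2 x hx
  rwa [mul_smul, mul_smul, ← eq_inv_smul_iff] at this

theorem exists_ne : ∃ b, b ≠ a :=
  Set.nonempty_of_ncard_ne_zero (s := {a}ᶜ) (by rw [c.ncard_compl]; exact (pow_pos c.hp.pos 2).ne')

theorem card_eq : Nat.card Q = p := by
  obtain ⟨b, hb⟩ := h.exists_ne c
  rw [← orb_card Q b, h.card b hb, show Q ⊓ stabilizer G b = ⊥ from
    (eq_bot_iff_forall _).2 fun n hn => h.semireg c hn.1 hb hn.2, card_bot, mul_one]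

theorem cent_fix {g : G} (hg : g ∈ centralizer (Q : Set G)) : g • a = a := by
  by_contra e
  refine c.hp.one_lt.ne' ?_
  rw [← h.card_eq c, card_eq_one, eq_bot_iff_forall]
  exact fun n hn => h.semireg c hn e (smul_fix_of_comm (hg n hn).symm (h.nrm.le n hn))

theorem nrmC : Nrm a (centralizer (Q : Set G)) :=
  ⟨fun _ => h.cent_fix c, fun g hg n hn m hm => by
    have := hn _ (h.nrm.norm g⁻¹ (inv_smul_eq_iff.2 hg.symm) m hm)
    calc m * (g * n * g⁻¹) = g * (g⁻¹ * m * g⁻¹⁻¹ * n) * g⁻¹ := by group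
      _ = _ := by rw [this]; group⟩

theorem mem_of_cent {g : G} (hg : g ∈ centralizer (Q : Set G))
    (e : ∀ x, x ≠ a → g • x ∈ orb Q x) : g ∈ Q := by
  let A : Subgroup G :=
    { carrier := {g | g ∈ centralizer (Q : Set G) ∧ ∀ x, x ≠ a → g • x ∈ orb Q x}
      one_mem' := ⟨one_mem _, fun x _ => by rw [one_smul]; exact mem_orb_self Q x⟩
      mul_mem' := fun {g k} hg hk => ⟨mul_mem hg.1 hk.1, fun x hx => by
        rw [mul_smul]
        exact orb_trans (hk.2 x hx) (hg.2 _ (smul_ne (h.cent_fix c hk.1) hx))⟩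
      inv_mem' := fun {g} hg => ⟨inv_mem hg.1, fun x hx => orb_symm (by
        simpa using hg.2 _ (smul_ne (h.cent_fix c (inv_mem hg.1)) hx))⟩ }
  have hQA : Q ≤ A := fun n hn => ⟨fun m hm => h.comm m hm n hn, fun x _ => ⟨n, hn, rfl⟩⟩
  have hA : ASys a A p :=
    { nrm := ⟨fun n hn => h.cent_fix c hn.1, fun g hg n hn => ⟨(h.nrmC c).norm g hg n hn.1,
        fun x hx => by
          have := h.nrm.smul_mem hg (hn.2 _ (smul_ne (inv_smul_eq_iff.2 hg.symm) hx))
          rwa [smul_inv_smul, ← mul_smul, ← mul_smul] at this⟩⟩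
      card := fun x hx => by
        rw [← h.card x hx]
        congr 1
        exact Set.ext fun y => ⟨by rintro ⟨n, hn, rfl⟩; exact hn.2 x hx,
          by rintro ⟨n, hn, rfl⟩; exact ⟨n, hQA hn, rfl⟩⟩
      comm := fun g hg k hk => by
        rw [← mul_inv_eq_one, ← inv_mul_eq_one, inv_mul_eq_one, mul_inv_eq_one, ← inv_mul_eq_one]
        refine c.eq_one ((stabilizer G a).mul_mem (inv_mem (mul_mem (h.cent_fix c hg.1)
          (h.cent_fix c hk.1))) (mul_mem (h.cent_fix c hk.1) (h.cent_fix c hg.1))) fun x hx => ?_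
        obtain ⟨n, hn, e1⟩ := hg.2 x hx
        obtain ⟨m, hm, e2⟩ := hk.2 x hx
        rw [mul_smul, inv_smul_eq_iff, mul_smul, mul_smul, ← e1, ← mul_smul, ← hk.1 n hn, mul_smul,
          ← e2, ← mul_smul g, ← hg.1 m hm, mul_smul, ← e1, ← mul_smul, ← mul_smul,
          h.comm n hn m hm] }
  exact eq_of_le_of_card_ge hQA (by rw [hA.card_eq c, h.card_eq c]) ▸ ⟨hg, e⟩

theorem aut : (∀ H ≤ stabilizer G a, ∃ m, m ∣ p - 1 ∧
      Nat.card H = m * Nat.card ↥(H ⊓ centralizer (Q : Set G))) ∧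
    ∀ g k : G, g • a = a → k • a = a → g * k * g⁻¹ * k⁻¹ ∈ centralizer (Q : Set G) := by
  have := Fact.mk c.hp
  have hle : stabilizer G a ≤ normalizer (Q : Set G) := fun g hg =>
    mem_normalizer_fintype (h.nrm.norm g hg)
  have hcyc : IsCyclic Q := isCyclic_of_prime_card (h.card_eq c)
  have hker : ∀ g : normalizer (Q : Set G), Q.normalizerMonoidHom g = 1 ↔
      (g : G) ∈ centralizer (Q : Set G) := fun g => by
    rw [← MonoidHom.mem_ker, normalizerMonoidHom_ker, mem_subgroupOf]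
  refine ⟨fun H hH => ?_, fun g k hg hk => ?_⟩
  · let φ := Q.normalizerMonoidHom.comp (inclusion (hH.trans hle))
    refine ⟨φ.ker.index, ?_, ?_⟩
    · rw [index_ker, ← Nat.totient_prime c.hp, ← h.card_eq c, ← IsCyclic.card_mulAut]
      exact card_subgroup_dvd_card _
    · rw [show φ.ker = (centralizer (Q : Set G)).subgroupOf H from Subgroup.ext fun g => hker _,
        inf_comm, ← relIndex, relIndex_mul_card_inf]
  · refine (hker (⟨g, hle hg⟩ * ⟨k, hle hk⟩ * ⟨g, hle hg⟩⁻¹ * ⟨k, hle hk⟩⁻¹)).1 ?_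
    apply (IsCyclic.mulAutMulEquiv Q).injective
    simp only [map_mul, map_inv, map_one]
    rw [mul_comm _ ((IsCyclic.mulAutMulEquiv Q) (Q.normalizerMonoidHom ⟨k, hle hk⟩))]
    simp

theorem trC {x y : Ω} (hx : x ≠ a) (hy : y ≠ a) : y ∈ orb (centralizer (Q : Set G)) x := by
  by_contra e
  have hQC : Q ≤ centralizer (Q : Set G) := fun n hn m hm => h.comm m hm n hn
  have e1 := c.orb_card_eq (h.nrmC c) (fun e1 => c.hp.one_lt.ne' (by
    rw [← h.card_eq c, card_eq_one, eq_bot_iff, ← e1]; exact hQC)) hx hy e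
  have e2 : centralizer (Q : Set G) = Q := le_antisymm (fun g hg => h.mem_of_cent c hg
    fun z hz => Set.eq_of_subset_of_ncard_le (s := orb Q z) (t := orb (centralizer (Q : Set G)) z)
      (by rintro _ ⟨n, hn, rfl⟩; exact ⟨n, hQC hn, rfl⟩) (by rw [e1 z hz, h.card z hz]) ▸
        ⟨g, hg, rfl⟩) hQC
  obtain ⟨m, e3, e4⟩ := (h.aut c).1 _ le_rfl
  have e5 := c.sq_dvd a
  rw [e4, inf_eq_right.2 (h.nrmC c).le, e2, h.card_eq c, sq] at e5
  have := Nat.le_of_dvd (by have := c.hp.two_le; omega)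
    ((Nat.dvd_of_mul_dvd_mul_right c.hp.pos e5).trans e3)
  have := c.hp.pos
  omega

/-- a nontrivial subgroup of `C_b` normal in `C_b` fixes exactly `a` and the block of `b` -/
theorem fix_iff {b : Ω} (hb : b ≠ a) {U : Subgroup G} (hU : U ≤ centralizer (Q : Set G))
    (h1 : ∀ u ∈ U, u • b = b) (hn : ∀ g ∈ centralizer (Q : Set G), g • b = b → ∀ u ∈ U,
      g * u * g⁻¹ ∈ U) (hU1 : U ≠ ⊥) (x : Ω) : (∀ u ∈ U, u • x = x) ↔ x ∈ insert a (orb Q b) := by
  constructor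
  · intro e
    by_contra e1
    have hxa : x ≠ a := fun e2 => e1 (Or.inl e2)
    have hF : ∀ B' ∈ trl G a (orb Q b), ∃ z, z ≠ a ∧ B' = orb Q z := by
      rintro _ ⟨g, hg, rfl⟩
      exact ⟨g • b, smul_ne hg hb, h.nrm.smul_orb hg b⟩
    have hF' : ∀ z, z ≠ a → orb Q z ∈ trl G a (orb Q b) := fun z hz => by
      obtain ⟨g, hg, rfl⟩ := c.tr hb hz
      exact ⟨g, hg, h.nrm.smul_orb hg b⟩
    have := burn1 (Ω := Set Ω) c.hp (C := centralizer (Q : Set G)) (F := trl G a (orb Q b))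
      (fun g hg B' hB' => by
        obtain ⟨z, hz, rfl⟩ := hF B' hB'
        rw [h.nrm.smul_orb (h.cent_fix c hg)]
        exact hF' _ (smul_ne (h.cent_fix c hg) hz))
      (fun B₁ h₁ B₂ h₂ => by
        obtain ⟨z, hz, rfl⟩ := hF _ h₁
        obtain ⟨w, hw, rfl⟩ := hF _ h₂
        obtain ⟨g, hg, rfl⟩ := h.trC c hz hw
        exact ⟨g, hg, h.nrm.smul_orb (h.cent_fix c hg) z⟩)
      (c.trl_card' (h.nrm.blk hb) (h.card b hb)) hU (hF' b hb) (hF' x hxa)
      (fun e2 => e1 (Or.inr (e2 ▸ mem_orb_self Q x)))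
      (fun u hu => by rw [h.nrm.smul_orb (h.cent_fix c (hU hu)), h1 u hu])
      (fun u hu => by rw [h.nrm.smul_orb (h.cent_fix c (hU hu)), e u hu])
      (fun g hg e2 u hu => by
        obtain ⟨n, hn', e3⟩ : g • b ∈ orb Q b := e2 ▸ Set.smul_mem_smul_set (mem_orb_self Q b)
        have := hn (n⁻¹ * g) (mul_mem (inv_mem fun m hm => h.comm m hm n hn') hg)
          (by rw [mul_smul, ← e3, inv_smul_smul]) u hu
        have e4 := hU this n hn'
        rwa [show g * u * g⁻¹ = n⁻¹ * g * u * (n⁻¹ * g)⁻¹ by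
          calc g * u * g⁻¹ = n * (n⁻¹ * g * u * (n⁻¹ * g)⁻¹) * n⁻¹ := by group
            _ = _ := by rw [e4]; group])
    refine hU1 ((eq_bot_iff_forall _).2 fun u hu => h.semireg c (h.mem_of_cent c (hU hu)
      fun z hz => ?_) hb (h1 u hu))
    exact this u hu _ (hF' z hz) ▸ Set.smul_mem_smul_set (mem_orb_self Q z)
  · rintro (rfl | hx) u hu
    exacts [h.cent_fix c (hU hu), fix_orb (hU hu) (h1 u hu) x hx]

theorem cent_swap {b : Ω} (hb : b ≠ a) {σ : G} (s1 : σ • a = b) (s2 : σ • b = a) {u : G}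
    (h1 : u ∈ centralizer (Q : Set G)) (h2 : σ⁻¹ * u * σ ∈ centralizer (Q : Set G)) : u = 1 := by
  let U : Subgroup G := centralizer (Q : Set G) ⊓
    (centralizer (Q : Set G)).comap (MulAut.conj σ⁻¹).toMonoidHom
  have hU : ∀ u, u ∈ U ↔ u ∈ centralizer (Q : Set G) ∧ σ⁻¹ * u * σ ∈ centralizer (Q : Set G) :=
    fun u => by simp [U]
  have hb' : ∀ u ∈ U, u • b = b := fun u hu => by
    have := h.cent_fix c ((hU u).1 hu).2
    rwa [mul_smul, mul_smul, s1, inv_smul_eq_iff, s1] at this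
  by_contra e
  have := h.fix_iff c hb (U := U) inf_le_left hb' (fun g hg e1 u hu => (hU _).2
    ⟨mul_mem (mul_mem hg ((hU u).1 hu).1) (inv_mem hg), by
      have := (h.nrmC c).norm (σ⁻¹ * g * σ) (by rw [mul_smul, mul_smul, s1, e1, inv_smul_eq_iff, s1])
        _ ((hU u).1 hu).2
      convert this using 1; group⟩) fun e1 => e (mem_bot.1 (e1 ▸ (hU u).2 ⟨h1, h2⟩))
  refine c.steiner (h.nrm.blk hb) (h.card b hb) (g := σ) (fun x hx => (this _).1 fun u hu => ?_)
    (s1 ▸ hb)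
  have e1 := (this x).2 hx (σ⁻¹ * u * σ) ((hU _).2 ⟨((hU u).1 hu).2, by
    have := (h.nrmC c).norm (σ * σ)⁻¹ (by rw [inv_smul_eq_iff, mul_smul, s1, s2]) _ ((hU u).1 hu).1
    convert this using 1; simp [mul_assoc]⟩)
  rwa [mul_smul, mul_smul, inv_smul_eq_iff] at e1

theorem cent_reg {b : Ω} (hb : b ≠ a) {u : G} (h1 : u ∈ centralizer (Q : Set G)) (h2 : u • b = b) :
    u = 1 := by
  have := Fact.mk c.hp
  obtain ⟨σ, s1, s2⟩ := exists_smul_pair c.two hb.symm hb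
  set C := centralizer (Q : Set G) with hC
  have hm : Nat.card ↥(C ⊓ stabilizer G b) ∣ p - 1 := by
    obtain ⟨m, e1, e2⟩ := (h.aut c).1 ((C ⊓ stabilizer G b).map (MulAut.conj σ).toMonoidHom) (by
      rintro _ ⟨u, hu, rfl⟩
      exact (swap_conj s1 s2 (h.cent_fix c hu.1) hu.2).1)
    rw [card_map_of_injective (MulAut.conj σ).injective,
      show (C ⊓ stabilizer G b).map (MulAut.conj σ).toMonoidHom ⊓ C = ⊥ from
        (eq_bot_iff_forall _).2 (by
          rintro _ ⟨⟨u, hu, rfl⟩, e⟩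
          exact h.cent_swap c hb s1 s2 e (by simpa [mul_assoc] using hu.1)), card_bot, mul_one] at e2
    rwa [e2]
  have hlt : Nat.card ↥(C ⊓ stabilizer G b) < p := by
    have := c.hp.two_le
    have := Nat.le_of_dvd (by omega) hm
    omega
  have hcard := orb_card C b
  rw [show orb C b = {a}ᶜ from Set.ext fun x => ⟨fun e => (h.nrmC c).ne_of_mem hb e,
    fun e => h.trC c hb e⟩, c.ncard_compl] at hcard
  obtain ⟨P⟩ : Nonempty (Sylow p C) := inferInstance
  have hP : Nat.card P = p ^ 2 := by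
    rw [P.card_eq_multiplicity, ← hcard, Nat.factorization_mul (pow_pos c.hp.pos 2).ne'
      Nat.card_pos.ne', Finsupp.add_apply, Nat.factorization_eq_zero_of_lt hlt,
      Nat.factorization_pow_self c.hp]
  have hPn : (P : Subgroup C).Normal := by
    have e1 := P.card_dvd_index
    have e2 := (P : Subgroup C).card_mul_index
    rw [hP, ← hcard] at e2
    rw [Nat.eq_of_mul_eq_mul_left (pow_pos c.hp.pos 2) e2] at e1
    have e3 : Nat.card (Sylow p C) = 1 := Nat.ModEq.eq_of_lt_of_lt (card_sylow_modEq_one p C)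
      ((Nat.le_of_dvd Nat.card_pos e1).trans_lt hlt) c.hp.one_lt
    have := (Nat.card_eq_one_iff_unique.1 e3).1
    exact P.normal_of_subsingleton
  let P' := (P : Subgroup C).map C.subtype
  have hP' : ∀ g, g ∈ P' ↔ g ∈ C ∧ ∃ k, g ^ p ^ k = 1 := fun g => ⟨by
    rintro ⟨g, hg, rfl⟩
    obtain ⟨k, hk⟩ := P.isPGroup' ⟨g, hg⟩
    exact ⟨g.2, k, congrArg (fun x : P => (x.1 : G)) hk⟩, fun ⟨hg, k, hk⟩ =>
      ⟨⟨g, hg⟩, (P.is_maximal' ((Invol.isPGroup_zpowers_of_pow_eq_one (x := (⟨g, hg⟩ : C)) (k := k)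
        (Subtype.ext hk)).to_sup_of_normal_right P.isPGroup') le_sup_right) ▸
          mem_sup_left (mem_zpowers _), rfl⟩⟩
  have hfree : ∀ g ∈ P', g • b = b → g = 1 := fun g hg e => by
    obtain ⟨hg, k, hk⟩ := (hP' g).1 hg
    have e1 := (orderOf_dvd_natCard (C ⊓ stabilizer G b) ⟨hg, e⟩)
    obtain ⟨j, -, e2⟩ := (Nat.dvd_prime_pow c.hp).1 (orderOf_dvd_of_pow_eq_one hk)
    rcases j with _ | j
    · exact orderOf_eq_one_iff.1 e2
    · exact absurd (Nat.le_of_dvd Nat.card_pos ((e2 ▸ dvd_pow_self p j.succ_ne_zero).trans e1))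
        hlt.not_ge
  have htr : ∀ x, x ≠ a → x ∈ orb P' b := by
    have e1 := orb_card P' b
    rw [show P' ⊓ stabilizer G b = ⊥ from (eq_bot_iff_forall _).2 fun g hg => hfree g hg.1 hg.2,
      card_bot, mul_one, card_map_of_injective C.subtype_injective, hP] at e1
    have := Set.eq_of_subset_of_ncard_le (s := orb P' b) (t := {a}ᶜ) (by
      rintro _ ⟨g, hg, rfl⟩
      exact smul_ne (h.cent_fix c ((hP' g).1 hg).1) hb) (by rw [e1, c.ncard_compl])
    exact fun x hx => this ▸ hx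
  by_contra hu
  have hfix := h.fix_iff c hb (U := C ⊓ stabilizer G b) inf_le_left (fun u hu => hu.2)
    (fun g hg e u hu => mul_mem (mul_mem ⟨hg, e⟩ hu) (inv_mem ⟨hg, e⟩))
    (fun e => hu (mem_bot.1 (e ▸ ⟨h1, h2⟩)))
  obtain ⟨z, hz, hzb⟩ := Set.exists_ne_of_one_lt_ncard (s := orb Q b)
    (h.card b hb ▸ c.hp.one_lt) b
  have hσz : σ • z ≠ a := fun e => hzb (MulAction.injective σ (e.trans s2.symm))
  obtain ⟨g, hg, e1⟩ := htr _ hσz
  have hcomm : ∀ w ∈ C ⊓ stabilizer G b, g * (σ * w * σ⁻¹) = σ * w * σ⁻¹ * g := fun w hw => by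
    obtain ⟨f1, f2⟩ := swap_conj s1 s2 (h.cent_fix c hw.1) hw.2
    obtain ⟨hgC, k, hk⟩ := (hP' g).1 hg
    have := hfree (g⁻¹ * (σ * w * σ⁻¹ * g * (σ * w * σ⁻¹)⁻¹)) (mul_mem (inv_mem hg) ((hP' _).2
      ⟨(h.nrmC c).norm _ f1 g hgC, k, by rw [conj_pow, hk]; simp⟩)) (by
        rw [mul_smul, inv_smul_eq_iff, mul_smul, inv_smul_eq_iff.2 f2.symm, mul_smul, e1, conj_smul,
          (hfix z).2 (Or.inr hz) w hw])
    rw [inv_mul_eq_one, eq_mul_inv_iff_mul_eq] at this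
    exact this
  refine c.steiner (h.nrm.blk hb) (h.card b hb) (g := σ⁻¹ * g⁻¹ * σ)
    (fun x hx => (hfix _).1 fun w hw => ?_) fun e => ?_
  · refine smul_fix_of_comm ?_ ((hfix x).2 hx w hw)
    calc σ⁻¹ * g⁻¹ * σ * w = σ⁻¹ * g⁻¹ * (σ * w * σ⁻¹ * g) * g⁻¹ * σ := by group
      _ = _ := by rw [← hcomm w hw]; group
  · rw [mul_smul, mul_smul, s1, inv_smul_eq_iff, s1, inv_smul_eq_iff, e1, ← s1] at e
    exact h.nrm.ne_of_mem hb hz (MulAction.injective σ e).symm

theorem cardC : Nat.card (centralizer (Q : Set G)) = p ^ 2 := by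
  obtain ⟨b, hb⟩ := h.exists_ne c
  rw [← orb_card _ b, show centralizer (Q : Set G) ⊓ stabilizer G b = ⊥ from
    (eq_bot_iff_forall _).2 fun g hg => h.cent_reg c hb hg.1 hg.2, card_bot, mul_one,
    show orb (centralizer (Q : Set G)) b = {a}ᶜ from Set.ext fun x =>
      ⟨fun e => (h.nrmC c).ne_of_mem hb e, fun e => h.trC c hb e⟩, c.ncard_compl]

theorem three {b z : Ω} (hb : b ≠ a) (hz : z ≠ a) (hzb : z ≠ b) {x : G} (e1 : x • a = a)
    (e2 : x • b = b) (e3 : x • z = z) : x = 1 := by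
  have := Fact.mk c.hp
  have hab := IsPGroup.isMulCommutative_of_card_eq_prime_sq (h.cardC c)
  set C := centralizer (Q : Set G) with hC
  have hcomm : ∀ g ∈ C, ∀ k ∈ C, g * k = k * g := fun g hg k hk =>
    congrArg Subtype.val (hab.is_comm.comm ⟨g, hg⟩ ⟨k, hk⟩)
  have key : ∀ g ∈ C, x • g • b = g • b → g * x = x * g := fun g hg e => by
    have := h.cent_reg c hb (mul_mem (inv_mem hg) ((h.nrmC c).norm x e1 g hg)) (by
      rw [mul_smul, inv_smul_eq_iff, mul_smul, inv_smul_eq_iff.2 e2.symm, mul_smul, e])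
    rw [inv_mul_eq_one, eq_mul_inv_iff_mul_eq] at this
    exact this
  by_contra hx
  obtain ⟨w, hw, e4⟩ : ∃ w, w ≠ a ∧ x • w ≠ w := by
    by_contra e
    push Not at e
    exact hx (c.eq_one e1 e)
  have hn : Nrm a (C ⊓ centralizer {x}) := ⟨fun n hn => h.cent_fix c hn.1, fun g hg n hn => by
    obtain ⟨k, hk, e5⟩ := h.trC c hb (smul_ne hg hb)
    have e6 : (k⁻¹ * g) • a = a := (stabilizer G a).mul_mem ((stabilizer G a).inv_mem (h.cent_fix c hk)) hg
    have e7 : (k⁻¹ * g) • b = b := by rw [mul_smul, ← e5, inv_smul_smul]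
    have e8 := h.cent_reg c hb ((h.aut c).2 _ x e6 e1) ((stabilizer G b).mul_mem
      (mul_mem (mul_mem e7 e2) (inv_mem e7)) (inv_mem e2))
    have e9 : k⁻¹ * g * n * (k⁻¹ * g)⁻¹ ∈ C ⊓ centralizer {x} :=
      ⟨(h.nrmC c).norm _ e6 n hn.1, mul_mem (mul_mem (memC (by
        rwa [mul_inv_eq_one, mul_inv_eq_iff_eq_mul] at e8)) hn.2) ((centralizer {x}).inv_mem (memC (by
        rwa [mul_inv_eq_one, mul_inv_eq_iff_eq_mul] at e8)))⟩
    rwa [show g * n * g⁻¹ = k⁻¹ * g * n * (k⁻¹ * g)⁻¹ by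
      calc g * n * g⁻¹ = k * (k⁻¹ * g * n * (k⁻¹ * g)⁻¹) * k⁻¹ := by group
        _ = _ := by rw [hcomm k hk _ e9.1]; group]⟩
  obtain ⟨g, hg, rfl⟩ := h.trC c hb hz
  have hA : ASys a (C ⊓ centralizer {x}) p :=
    { nrm := hn
      card := c.orb_card_eq hn (fun e => hzb (by
        rw [mem_bot.1 (e ▸ ⟨hg, memC (key g hg e3)⟩ : g ∈ (⊥ : Subgroup G)), one_smul])) hb hw (by
          rintro ⟨n, hn, rfl⟩
          exact e4 (smul_fix_of_comm (commC hn.2) e2))
      comm := fun g hg k hk => hcomm g hg.1 k hk.1 }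
  exact hx (hA.cent_reg c hb (fun n hn => commC hn.2) e2)

theorem final : p = 2 ∧ Nat.card G = 20 := by
  have := c.faith
  obtain ⟨b, hb⟩ := h.exists_ne c
  obtain ⟨m, e1, e2⟩ := (h.aut c).1 (stab2 G a b) inf_le_left
  rw [show stab2 G a b ⊓ centralizer (Q : Set G) = ⊥ from (eq_bot_iff_forall _).2
    fun g hg => h.cent_reg c hb hg.2 hg.1.2, card_bot, mul_one] at e2
  have e3 := (tt_top c.two).card_grp trivial trivial hb.symm
  rw [top_inf_eq, card_top, Set.ncard_univ, c.card, e2] at e3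
  have e4 : Nat.card G = (p ^ 2 + 1) * p ^ 2 * m := by
    zify
    rw [e3]; push_cast; ring
  rcases c.hp.eq_two_or_odd' with rfl | hodd
  · exact ⟨rfl, by rw [e4, Nat.dvd_one.1 e1]; rfl⟩
  exfalso
  have h2 := c.hp.two_le
  rcases Nat.even_or_odd m with hm | hm
  · obtain ⟨t, ht, e5⟩ := Invol.exists_involution_mem_of_even_card (H := stab2 G a b) (e2 ▸ hm)
    obtain ⟨tt, t1⟩ := orderOf_eq_two_iff'.1 e5
    have hf : ∀ s ∈ cl t, (fixedBy Ω s ∩ Set.univ).ncard = 2 := fun s hs => by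
      rw [Set.inter_univ, ncard_fixedBy_of_isConj hs, ← Set.ncard_pair hb.symm]
      congr 1; ext z
      refine ⟨fun hz => ?_, by rintro (rfl | rfl); exacts [ht.1, ht.2]⟩
      by_contra e
      exact t1 (h.three c hb (fun e1 => e (Or.inl e1)) (fun e1 => e (Or.inr e1)) ht.1 ht.2 hz)
    have c1 := (tt_top c.two).cnt_sw (cl_conj t) (fun _ _ => trivial) (fun s hs x _ => by
      rw [← mul_smul, mul_self_of_isConj tt hs, one_smul]) hf trivial trivial hb.symm
    have c2 := (tt_top c.two).cnt_two (cl_conj t) hf trivial trivial hb.symm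
    have c3 : 0 < (f2 (cl t) a b).ncard :=
      (Set.ncard_pos (Set.toFinite _)).2 ⟨t, IsConj.refl t, ht.1, ht.2⟩
    have c4 : (sw (cl t) a b).ncard ≤ m := by
      have := (tt_top c.two).ncard_sw trivial trivial hb.symm
      rw [top_inf_eq] at this
      rw [← e2, ← this]
      exact Set.ncard_le_ncard fun s hs => ⟨trivial, hs.2⟩
    have c5 := Nat.le_of_dvd (by omega) e1
    rw [Set.ncard_univ, c.card] at c1 c2
    push_cast at c1 c2
    have c6 : 2 * ((sw (cl t) a b).ncard : ℤ) = (p ^ 2 - 1) * (f2 (cl t) a b).ncard :=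
      mul_left_cancel₀ (show ((p : ℤ) ^ 2 + 1) * p ^ 2 ≠ 0 by positivity) (by
        linear_combination (-2) * c1 + ((p : ℤ) ^ 2 - 1) * c2)
    obtain ⟨k, rfl⟩ := hodd
    have : (sw (cl t) a b).ncard ≤ 2 * k := by omega
    push_cast at c6
    have hk : (1 : ℤ) ≤ k := by omega
    have h3 : (1 : ℤ) ≤ (f2 (cl t) a b).ncard := by omega
    have h4 : ((sw (cl t) a b).ncard : ℤ) ≤ 2 * k := by omega
    nlinarith [mul_nonneg (sub_nonneg.2 h3) (show (0 : ℤ) ≤ k * k + k by positivity)]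
  · obtain ⟨S⟩ : Nonempty (Sylow 2 G) := inferInstance
    obtain ⟨k, rfl⟩ := hodd
    have e5 : Nat.card G = 2 * ((2 * k ^ 2 + 2 * k + 1) * (2 * k + 1) ^ 2 * m) := by rw [e4]; ring
    have e6 : Odd ((2 * k ^ 2 + 2 * k + 1) * (2 * k + 1) ^ 2 * m) :=
      (Odd.mul ⟨k ^ 2 + k, by ring⟩ (Odd.pow ⟨k, rfl⟩)).mul hm
    have e7 : Nat.card S = 2 := by
      rw [S.card_eq_multiplicity, e5, Nat.factorization_mul two_ne_zero e6.pos.ne',
        Finsupp.add_apply, Nat.factorization_eq_zero_of_not_dvd (Nat.two_dvd_ne_zero.2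
          (Nat.odd_iff.1 e6)), Nat.Prime.factorization_self Nat.prime_two]
      rfl
    obtain ⟨N, hN, e8⟩ := Invol.exists_normal_complement_of_isCyclic S (isCyclic_of_prime_card e7)
    have e9 := e8.card_mul
    rw [e7, e5, mul_comm] at e9
    replace e9 := Nat.eq_of_mul_eq_mul_left two_pos e9
    have hN1 : N ≠ ⊥ := fun e => by
      rw [e, card_bot] at e9
      have := Nat.eq_one_of_mul_eq_one_left (Nat.eq_one_of_mul_eq_one_right e9.symm)
      nlinarith
    have := orb_card N a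
    rw [show orb N a = Set.univ from Set.eq_univ_of_forall fun y =>
      normal_transitive_of_two_transitive c.two N hN1 a y, Set.ncard_univ, c.card, e9] at this
    have e10 := (Nat.odd_mul.1 (this ▸ e6)).1
    exact Nat.not_even_iff_odd.2 e10 ⟨2 * k ^ 2 + 2 * k + 1, by ring⟩

end ASys

end CfsgLib.Atk
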