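import Mathlib
import Cfsg.Agent.Lib.Atk.Ab

/-! Atkinson: a perfect normal subgroup of the point stabiliser with orbits of size `p`. -/

set_option autoImplicit false
set_option linter.unusedSectionVars false

namespace CfsgLib.Atk

open Subgroup MulAction CfsgLib.Perm CfsgLib.Kim
open scoped Pointwise

variable {G : Type*} {Ω : Type*} [Group G] [MulAction G Ω] [Finite G] [Finite Ω]
  {p : ℕ} {a : Ω} {T T' : Subgroup G}

/-- a perfect normal subgroup of the stabiliser of `a` with orbits of size `p` -/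
structure PSys (a : Ω) (T : Subgroup G) (p : ℕ) : Prop where
  nrm : Nrm a T
  card : ∀ x, x ≠ a → (orb T x).ncard = p
  perf : ⁅T, T⁆ = T

theorem Ctx.dich (c : Ctx G Ω p) {B : Set Ω} (h : Blk G a B) (hB : B.ncard = p) {b : Ω}
    (hb : b ∈ B) : ∃ N : Subgroup G, orb N b = B ∧ (ASys a N p ∨ PSys a N p) := by
  obtain ⟨N, h1, h2, h3, h4⟩ := c.exists_sys h hB hb
  refine ⟨N, h3, ?_⟩
  have hle : ⁅N, N⁆ ≤ N := commutator_le.2 fun g hg k hk =>
    mul_mem (mul_mem (mul_mem hg hk) (inv_mem hg)) (inv_mem hk)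
  by_cases e : ⁅N, N⁆ = ⊥
  · exact Or.inl ⟨h1, h2, fun x hx y hy =>
      (commutator_eq_bot_iff_le_centralizer.1 e hy x hx)⟩
  · refine Or.inr ⟨h1, h2, h4 _ hle ⟨fun n hn => h1.le n (hle hn), fun g hg n hn => ?_⟩ e⟩
    have : ⁅N, N⁆ ≤ (⁅N, N⁆).comap (MulAut.conj g).toMonoidHom := commutator_le.2 fun x hx y hy => by
      rw [mem_comap, map_commutatorElement]
      exact commutator_mem_commutator (h1.norm g hg x hx) (h1.norm g hg y hy)
    exact this hn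

/-- the kernel of the action on an orbit -/
def kerO (T : Subgroup G) (x : Ω) : Subgroup G := T ⊓ ⨅ y ∈ orb T x, stabilizer G y

theorem mem_kerO {x : Ω} {t : G} : t ∈ kerO T x ↔ t ∈ T ∧ ∀ y ∈ orb T x, t • y = y := by
  simp [kerO, mem_iInf]

theorem Nrm.conj_kerO (h : Nrm a T) {g : G} (hg : g • a = a) {x : Ω} {t : G} (ht : t ∈ kerO T x) :
    g * t * g⁻¹ ∈ kerO T (g • x) := by
  rw [mem_kerO] at ht ⊢
  refine ⟨h.norm g hg t ht.1, ?_⟩
  rw [← h.smul_orb hg]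
  rintro _ ⟨y, hy, rfl⟩
  exact (conj_smul_iff g t y y).2 (ht.2 y hy)

theorem kerO_eq {x y : Ω} (e : y ∈ orb T x) : kerO T y = kerO T x := by rw [kerO, kerO, orb_eq e]

theorem Nrm.norm_kerO (h : Nrm a T) (x : Ω) : ∀ g ∈ T, ∀ t ∈ kerO T x, g * t * g⁻¹ ∈ kerO T x :=
  fun g hg _ ht => kerO_eq (T := T) (x := x) ⟨g, hg, rfl⟩ ▸ h.conj_kerO (h.le g hg) ht

theorem cover (c : Ctx G Ω p) (hn : Nrm a T) (h : ∀ x, x ≠ a → (orb T x).ncard = p) {Y : Set Ω}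
    (h1 : a ∉ Y) (h2 : Y.ncard = p) (h3 : ∀ y ∈ Y, ∀ z ∈ Y, z ∈ orb T y → z = y) {x : Ω}
    (hx : x ≠ a) : ∃ y ∈ Y, x ∈ orb T y := by
  have := dc (Set.toFinite {x | ∃ y ∈ Y, x ∈ orb T y}) (Set.toFinite Y) (fun x y => x ∈ orb T y)
    (m := 1) (n := p) (fun x hx => ?_) (fun y hy => ?_)
  · have e := Set.eq_of_subset_of_ncard_le (s := {x | ∃ y ∈ Y, x ∈ orb T y}) (t := {a}ᶜ) (by
      rintro x ⟨y, hy, e⟩
      exact hn.ne_of_mem (fun e1 => h1 (e1 ▸ hy)) e) (by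
        rw [c.ncard_compl, ← mul_one (Set.ncard {x | ∃ y ∈ Y, x ∈ orb T y}), this, h2, sq])
    exact (e.symm ▸ hx : x ∈ {x | ∃ y ∈ Y, x ∈ orb T y})
  · obtain ⟨y, hy, e⟩ := hx
    rw [Set.ncard_eq_one]
    exact ⟨y, Set.eq_singleton_iff_unique_mem.2 ⟨⟨hy, e⟩, fun z hz =>
      h3 y hy z hz.1 (orb_trans e (orb_symm hz.2))⟩⟩
  · rw [← h y fun e => h1 (e ▸ hy)]
    congr 1; ext x
    exact and_iff_right_of_imp fun e => ⟨y, hy, e⟩

namespace PSys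

variable (c : Ctx G Ω p) (h : PSys a T p)
include c h

omit c h in
theorem tr_orb (x : Ω) : ∀ y ∈ orb T x, ∀ z ∈ orb T x, ∃ g ∈ T, g • y = z :=
  fun _ hy _ hz => orb_trans (orb_symm hy) hz

theorem tt {x : Ω} (hx : x ≠ a) : TT T (orb T x) ∧ 3 ≤ p :=
  burn2 c.hp (fun _ hg _ hy => smul_mem_orb hg hy) (tr_orb x) (h.card x hx) h.perf

theorem moves {x y : Ω} (hx : x ≠ a) (hy : y ∈ orb T x) (e : y ≠ x) :
    ∃ t ∈ T, t • x = x ∧ t • y ≠ y := by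
  obtain ⟨h1, h2⟩ := h.tt c hx
  obtain ⟨z, hz, e1⟩ : ∃ z ∈ orb T x, z ∉ ({x, y} : Set Ω) := by
    by_contra e1
    push Not at e1
    have := (Set.ncard_le_ncard e1).trans (ncard_le_two x y)
    rw [h.card x hx] at this
    omega
  obtain ⟨t, ht, e2, e3⟩ := h1.two (mem_orb_self T x) hy (mem_orb_self T x) hz e.symm
    fun e2 => e1 (Or.inl e2.symm)
  exact ⟨t, ht, e2, fun e4 => e1 (Or.inr (e3.symm.trans e4))⟩

theorem ker_eq {x y : Ω} (hx : x ≠ a) (hy : y ≠ a) (e : kerO T x ≤ kerO T y) :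
    kerO T x = kerO T y := by
  obtain ⟨g, hg, rfl⟩ := c.tr hy hx
  refine eq_of_le_of_card_ge e ?_
  rw [← card_map_of_injective (MulAut.conj g).injective (f := (MulAut.conj g).toMonoidHom)]
  refine card_le_of_le ?_
  rintro _ ⟨t, ht, rfl⟩
  exact h.nrm.conj_kerO hg ht

theorem exists_supp {b : Ω} (hb : b ≠ a) (h1 : kerO T b ≠ ⊥) {x : Ω} (hx : x ∈ orb T b) :
    ∃ u : G, u • b = x ∧ ∀ y, y ∉ orb T b → u • y = y := by
  have hΦ : Blk G a {x | x ≠ a ∧ kerO T b ≤ kerO T x} := ⟨fun e => e.1 rfl, fun g hg x hx e y hy =>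
    ⟨smul_ne hg hy.1, fun t ht => by
      have e1 := h.nrm.conj_kerO (inv_smul_eq_iff.2 hg.symm) (e.2 ht)
      rw [inv_smul_smul, ← h.ker_eq c hb hx.1 hx.2] at e1
      simpa [mul_assoc] using h.nrm.conj_kerO hg (hy.2 e1)⟩⟩
  have hBΦ : orb T b ⊆ {x | x ≠ a ∧ kerO T b ≤ kerO T x} := fun x hx =>
    ⟨h.nrm.ne_of_mem hb hx, (kerO_eq hx).ge⟩
  obtain ⟨z, hz, e1⟩ : ∃ z, z ≠ a ∧ ¬ kerO T b ≤ kerO T z := by
    by_contra e1
    push Not at e1
    exact h1 ((eq_bot_iff_forall _).2 fun t ht => c.eq_one (h.nrm.le t (mem_kerO.1 ht).1)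
      fun y hy => (mem_kerO.1 (e1 y hy ht)).2 y (mem_orb_self T y))
  have e2 := Set.eq_of_subset_of_ncard_le hBΦ (by
    rw [c.blk_card hΦ ((h.card b hb ▸ c.hp.one_lt).trans_le (Set.ncard_le_ncard hBΦ)) hz
      fun e2 => e1 e2.2, h.card b hb])
  have key : ∀ S : Set Ω, S.Finite → (∀ y ∈ S, y ∉ orb T b) → ∃ U ≤ T,
      (∀ g ∈ T, ∀ u ∈ U, g * u * g⁻¹ ∈ U) ∧ (∃ u ∈ U, ∃ x ∈ orb T b, u • x ≠ x) ∧
        ∀ y ∈ S, ∀ u ∈ U, u • y = y := by
    intro S hS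
    induction S, hS using Set.Finite.induction_on with
    | empty =>
      obtain ⟨y, hy, e⟩ := Set.exists_ne_of_one_lt_ncard (s := orb T b) (h.card b hb ▸ c.hp.one_lt) b
      obtain ⟨t, ht, rfl⟩ := hy
      exact fun _ => ⟨T, le_rfl, fun g hg u hu => mul_mem (mul_mem hg hu) (inv_mem hg),
        ⟨t, ht, b, mem_orb_self T b, e⟩, by simp⟩
    | @insert y S _ _ ih =>
      intro hS
      obtain ⟨U, f1, f2, f3, f4⟩ := ih fun y hy => hS y (Or.inr hy)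
      by_cases hy : y = a
      · refine ⟨U, f1, f2, f3, ?_⟩
        rintro z (rfl | hz) u hu
        exacts [hy ▸ h.nrm.le u (f1 hu), f4 z hz u hu]
      refine ⟨U ⊓ kerO T y, inf_le_left.trans f1, fun g hg u hu =>
        ⟨f2 g hg u hu.1, h.nrm.norm_kerO y g hg u hu.2⟩, burn3 c.hp
          (fun _ hg _ hy => smul_mem_orb hg hy) (tr_orb b) (h.card b hb) h.perf f1 inf_le_left f2
          (h.nrm.norm_kerO y) f3 ?_, ?_⟩
      · by_contra e
        push Not at e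
        exact hS y (Or.inl rfl) (e2 ▸ ⟨hy, (h.ker_eq c hy hb fun t ht =>
          mem_kerO.2 ⟨(mem_kerO.1 ht).1, e t ht⟩).ge⟩)
      · rintro z (rfl | hz) u hu
        exacts [(mem_kerO.1 hu.2).2 _ (mem_orb_self T _), f4 z hz u hu.1]
  obtain ⟨U, f1, f2, f3, f4⟩ := key (orb T b)ᶜ (Set.toFinite _) fun y hy => hy
  obtain ⟨u, hu, e⟩ := trans_of_normal (h.tt c hb).1 f2 f1 f3 b (mem_orb_self T b) x hx
  exact ⟨u, e, fun y hy => f4 y hy u hu⟩

theorem faith {b : Ω} (hb : b ≠ a) {t : G} (ht : t ∈ T) (e : ∀ y ∈ orb T b, t • y = y) : t = 1 := by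
  by_contra h1
  obtain ⟨σ, s1, s2⟩ := exists_smul_pair c.two hb.symm hb
  have s3 : σ⁻¹ • a = b := inv_smul_eq_iff.2 s2.symm
  refine c.steiner (h.nrm.blk hb) (h.card b hb) (g := σ⁻¹) ?_ (s3 ▸ hb)
  rintro x (rfl | hx)
  · exact Or.inr (s3 ▸ mem_orb_self T b)
  by_contra e1
  have e2 : σ⁻¹ • x ≠ a := fun e2 => e1 (Or.inl e2)
  have e3 : b ∉ orb T (σ⁻¹ • x) := fun e3 => e1 (Or.inr (orb_symm e3))
  have e4 : σ • orb T (σ⁻¹ • x) ⊆ orb T b \ {b} := by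
    rintro _ ⟨w, hw, rfl⟩
    obtain ⟨u, f1, f2⟩ := h.exists_supp c e2 (fun f => by
      obtain ⟨g, hg, f1⟩ := c.tr hb e2
      have := h.nrm.conj_kerO hg (mem_kerO.2 ⟨ht, e⟩)
      rw [f1, f, mem_bot, conj_eq_one_iff] at this
      exact h1 this) hw
    obtain ⟨f3, f4⟩ := swap_conj s1 s2 (f2 a fun f => h.nrm.ne_of_mem e2 f rfl) (f2 b e3)
    refine ⟨?_, fun f => h.nrm.ne_of_mem e2 hw (MulAction.injective σ (f.trans s1.symm))⟩
    have := h.nrm.smul_mem f3 hx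
    rwa [f4, mul_smul, mul_smul, f1] at this
  have := Set.ncard_le_ncard e4
  rw [Set.ncard_smul_set, h.card _ e2, Set.ncard_diff_singleton_of_mem (mem_orb_self T b),
    h.card b hb] at this
  have := c.hp.pos
  omega

theorem grid (h' : PSys a T' p) {b : Ω} (hb : b ≠ a)
    (hΨ : ∀ x ∈ orb T' b, ∀ t ∈ T, t • b = b → t • x = x) : False := by
  have meet : ∀ x, x ≠ a → ∀ y ∈ orb T x, y ∈ orb T' x → y = x := fun x hx y h1 h2 => by
    by_contra e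
    obtain ⟨t, ht, e1, e2⟩ := h.moves c hx h1 e
    obtain ⟨g, hg, rfl⟩ := c.tr hb hx
    have hg' := inv_smul_eq_iff.2 hg.symm
    have := hΨ (g⁻¹ • y) (by simpa using h'.nrm.smul_mem hg' h2) _ (h.nrm.norm g⁻¹ hg' t ht)
      (by rw [inv_inv, mul_smul, mul_smul, e1, inv_smul_smul])
    exact e2 ((conj_smul_iff _ _ _ _).1 this)
  have comm : ∀ t ∈ T, ∀ s ∈ T', s * t = t * s := fun t ht s hs => by
    have e1 : s * t * s⁻¹ * t⁻¹ ∈ T := mul_mem (h.nrm.norm s (h'.nrm.le s hs) t ht) (inv_mem ht)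
    have e2 : s * t * s⁻¹ * t⁻¹ ∈ T' := by
      rw [mul_assoc, mul_assoc, ← mul_assoc t]
      exact mul_mem hs (h'.nrm.norm t (h.nrm.le t ht) _ (inv_mem hs))
    have := c.eq_one (h.nrm.le _ e1) fun x hx => meet x hx _ ⟨_, e1, rfl⟩ ⟨_, e2, rfl⟩
    rwa [mul_inv_eq_one, mul_inv_eq_iff_eq_mul] at this
  obtain ⟨σ, s1, s2⟩ := exists_smul_pair c.two hb.symm hb
  have hΔ : ∀ g : G, g • a = a → g • b = b → ∀ x ∈ σ • insert a (orb T' b),
      g • x ∈ σ • insert a (orb T' b) := by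
    rintro g e1 e2 _ ⟨x, hx, rfl⟩
    obtain ⟨f1, f2⟩ := swap_conj (inv_smul_eq_iff.2 s2.symm) (inv_smul_eq_iff.2 s1.symm) e1 e2
    refine ⟨(σ⁻¹ * g * σ⁻¹⁻¹) • x, ?_, by simp [mul_smul]⟩
    rcases hx with rfl | hx
    exacts [Or.inl f1, Or.inr (f2 ▸ h'.nrm.smul_mem f1 hx)]
  have ha : a ∈ σ • insert a (orb T' b) := ⟨b, Or.inr (mem_orb_self T' b), s2⟩
  have hb' : b ∈ σ • insert a (orb T' b) := ⟨a, Or.inl rfl, s1⟩
  have hc : (σ • insert a (orb T' b)).ncard = p + 1 := by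
    rw [Set.ncard_smul_set, Set.ncard_insert_of_notMem (h'.nrm.blk hb).na, h'.card b hb]
  have full : ∀ {S : Subgroup G}, PSys a S p → ∀ z ∈ σ • insert a (orb T' b), z ∈ orb S b → z ≠ b →
      insert a (orb S b) = σ • insert a (orb T' b) := fun {S} hS z h1 h2 h3 => by
    refine Set.eq_of_subset_of_ncard_le ?_ (by
      rw [hc, Set.ncard_insert_of_notMem (hS.nrm.blk hb).na, hS.card b hb])
    rintro y (rfl | hy)
    · exact ha
    by_cases e : y = b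
    · exact e ▸ hb'
    obtain ⟨t, ht, e1, rfl⟩ := (hS.tt c hb).1.two (mem_orb_self S b) h2 (mem_orb_self S b) hy
      h3.symm (Ne.symm e)
    exact hΔ t (hS.nrm.le t ht) e1 z h1
  have h3 := (h.tt c hb).2
  obtain ⟨z, hz, e1⟩ : ∃ z ∈ σ • insert a (orb T' b), z ∉ ({a, b} : Set Ω) := by
    by_contra e1
    push Not at e1
    have := (Set.ncard_le_ncard e1).trans (ncard_le_two a b)
    omega
  have hza : z ≠ a := fun e => e1 (Or.inl e)
  have hzb : z ≠ b := fun e => e1 (Or.inr e)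
  by_cases z1 : z ∈ orb T b
  · have e2 := full h z hz z1 hzb
    obtain ⟨y, ⟨s, hs, rfl⟩, e3⟩ := Set.exists_ne_of_one_lt_ncard (s := orb T' b)
      (h'.card b hb ▸ c.hp.one_lt) b
    refine c.steiner (h.nrm.blk hb) (h.card b hb) (g := σ * s * σ⁻¹) ?_ fun e => e3 ?_
    · rw [e2]
      rintro _ ⟨x, hx, rfl⟩
      refine ⟨s • x, ?_, (conj_smul _ _ _).symm⟩
      rcases hx with rfl | hx
      exacts [Or.inl (h'.nrm.le s hs), Or.inr (smul_mem_orb hs hx)]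
    · rwa [← s2, conj_smul_iff] at e
  by_cases z2 : z ∈ orb T' b
  · have e2 := full h' z hz z2 hzb
    exact c.steiner (h'.nrm.blk hb) (h'.card b hb) (g := σ)
      (fun x hx => e2 ▸ Set.smul_mem_smul_set hx) (s1 ▸ hb)
  obtain ⟨b₁, f1, f2⟩ := cover c h.nrm h.card (h'.nrm.blk hb).na (h'.card b hb) (fun y hy w hw e =>
    meet y (h'.nrm.ne_of_mem hb hy) w e (orb_trans (orb_symm hy) hw)) hza
  obtain ⟨b₂, f3, f4⟩ := cover c h'.nrm h'.card (h.nrm.blk hb).na (h.card b hb) (fun y hy w hw e =>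
    meet y (h.nrm.ne_of_mem hb hy) w (orb_trans (orb_symm hy) hw) e) hza
  have hb₁ := h'.nrm.ne_of_mem hb f1
  have hb₂ := h.nrm.ne_of_mem hb f3
  have e2 : orb T b₁ \ {b₁} = (σ • insert a (orb T' b)) \ {a, b} := by
    refine Set.eq_of_subset_of_ncard_le (fun y hy => ⟨?_, ?_⟩) ?_
    · obtain ⟨t, ht, e1, rfl⟩ := (h.tt c hb₁).1.two (mem_orb_self T b₁) f2 (mem_orb_self T b₁) hy.1
        (fun e => z2 (e ▸ f1)) (Ne.symm hy.2)
      exact hΔ t (h.nrm.le t ht) (fix_orb (comm t ht) e1 b (orb_symm f1)) z hz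
    · rintro (e | e)
      · exact h.nrm.ne_of_mem hb₁ hy.1 e
      · exact z1 (orb_trans (orb_symm (e ▸ hy.1)) f2)
    · rw [Set.ncard_diff_singleton_of_mem (mem_orb_self T b₁), h.card _ hb₁, Set.ncard_diff (by
        rintro _ (rfl | rfl); exacts [ha, hb']), hc, Set.ncard_pair hb.symm]
      omega
  obtain ⟨s, hs, f5, f6⟩ := h'.moves c hb₂ f4 fun e => z1 (e ▸ f3)
  have f7 : s • b = b := fix_orb (fun t ht => (comm t ht s hs).symm) f5 b (orb_symm f3)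
  have f8 : s • z ∈ orb T b₁ \ {b₁} := e2 ▸ ⟨hΔ s (h'.nrm.le s hs) f7 z hz, by
    rintro (e | e)
    exacts [smul_ne (h'.nrm.le s hs) hza e, smul_ne f7 hzb e]⟩
  exact f6 (meet z hza _ (orb_trans (orb_symm f2) f8.1) ⟨s, hs, rfl⟩)

end PSys

end CfsgLib.Atk
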