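import Mathlib
import Cfsg.Agent.Lib.Atk.Perf
import Cfsg.Agent.Lib.Atk.Cyc

/-! Atkinson: the case of pairwise inequivalent actions on the blocks. -/

set_option autoImplicit false
set_option linter.unusedSectionVars false

namespace CfsgLib.Atk

open Subgroup MulAction CfsgLib.Perm CfsgLib.Kim
open scoped Pointwise

variable {G : Type*} {Ω : Type*} [Group G] [MulAction G Ω] [Finite G] [Finite Ω]
  {p : ℕ} {a : Ω} {T : Subgroup G}

/-- counting walks of length `p` in an invariant digraph -/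
theorem walk [Fact p.Prime] {b : Ω} (hb : b ≠ a) {P : Subgroup G} {Γ : Ω → Ω → Prop}
    (hT : ∀ g ∈ T, ∀ x y, Γ (g • x) (g • y) ↔ Γ x y) (hP : ∀ g ∈ P, ∀ x y, Γ (g • x) (g • y) ↔ Γ x y)
    (hΓ : ∀ x y, Γ x y → y ≠ a) (htr : ∀ x, x ≠ a → ∃ g ∈ P, g • b = x) {z : ℕ → Ω}
    (hz0 : z 0 = b) (hz : ∀ m x y, x ∈ orb T (z m) → Γ x y → y ∈ orb T (z (m + 1)))
    (hzp : z p ∈ orb T b) (h2 : TT T (orb T b)) {idx : Ω → ZMod p} (i0 : idx b = 0)
    (iadd : ∀ g ∈ P, ∀ x, x ≠ a → idx (g • x) = idx x + idx (g • b))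
    (ibij : Set.BijOn idx (orb T b) Set.univ) {S : Finset Ω} (hS : ∀ x, x ∈ S ↔ Γ b x) :
    ∃ w : ℂ, ∀ s : ZMod p, s ≠ 0 → (∑ x ∈ S, ZMod.stdAddChar (s * idx x)) ^ p = w := by
  classical
  have := Fintype.ofFinite Ω
  let A : Matrix Ω Ω ℂ := Matrix.of fun x y => if Γ x y then 1 else 0
  have h1 : ∀ m : ℕ, ∀ g ∈ T, ∀ x y, (A ^ m) (g • x) (g • y) = (A ^ m) x y := by
    intro m g hg
    induction m with
    | zero => intro x y; simp [Matrix.one_apply]
    | succ m ih =>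
      intro x y
      rw [pow_succ, Matrix.mul_apply, Matrix.mul_apply,
        ← Equiv.sum_comp (MulAction.toPerm g : Equiv.Perm Ω)]
      refine Finset.sum_congr rfl fun w _ => ?_
      rw [MulAction.toPerm_apply, ih]
      simp only [A, Matrix.of_apply, hT g hg]
  have h3 : ∀ m : ℕ, ∀ y, (A ^ m) b y ≠ 0 → y ∈ orb T (z m) := by
    intro m
    induction m with
    | zero =>
      intro y e
      rw [pow_zero, Matrix.one_apply] at e
      rw [hz0, ← of_not_not (fun e1 => e (if_neg e1))]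
      exact mem_orb_self T b
    | succ m ih =>
      intro y e
      rw [pow_succ, Matrix.mul_apply] at e
      obtain ⟨w, -, e1⟩ := Finset.exists_ne_zero_of_sum_ne_zero e
      refine hz m w y (ih w (left_ne_zero_of_mul e1)) (of_not_not fun e2 => ?_)
      exact right_ne_zero_of_mul e1 (if_neg e2)
  obtain ⟨u, hu, hub⟩ : ∃ u ∈ orb T b, u ≠ b := by
    obtain ⟨u, hu, e⟩ := ibij.surjOn (Set.mem_univ (1 : ZMod p))
    exact ⟨u, hu, fun e1 => zero_ne_one (i0.symm.trans (e1 ▸ e))⟩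
  refine ⟨(A ^ p) b b - (A ^ p) b u, fun s hs => ?_⟩
  set δ := ∑ x ∈ S, ZMod.stdAddChar (s * idx x) with hδ
  let f : Ω → ℂ := fun x => ZMod.stdAddChar (s * idx x)
  have h4 : ∀ x, x ≠ a → ∑ y, A x y * f y = δ * f x := fun x hx => by
    obtain ⟨g, hg, rfl⟩ := htr x hx
    rw [← Equiv.sum_comp (MulAction.toPerm g : Equiv.Perm Ω), hδ, Finset.sum_mul,
      ← Finset.sum_subset (Finset.subset_univ S) fun y _ hy => by
        simp only [A, Matrix.of_apply, MulAction.toPerm_apply, hP g hg, ← hS, if_neg hy, zero_mul]]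
    refine Finset.sum_congr rfl fun y hy => ?_
    simp only [A, f, Matrix.of_apply, MulAction.toPerm_apply, hP g hg, ← hS, if_pos hy, one_mul]
    rw [iadd g hg y (hΓ b y ((hS y).1 hy)), mul_add, AddChar.map_add_eq_mul]
  have h5 : ∀ m : ℕ, ∀ x, x ≠ a → ∑ y, (A ^ m) x y * f y = δ ^ m * f x := by
    intro m
    induction m with
    | zero => intro x _; simp [Matrix.one_apply]
    | succ m ih =>
      intro x hx
      simp only [pow_succ' A, Matrix.mul_apply, Finset.sum_mul]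
      rw [Finset.sum_comm, pow_succ, mul_assoc, ← h4 x hx, Finset.mul_sum]
      refine Finset.sum_congr rfl fun w _ => ?_
      simp only [mul_assoc, ← Finset.mul_sum]
      by_cases e : Γ x w
      · rw [ih w (hΓ x w e)]; ring
      · simp [A, e]
  have h6 : f b = 1 := by simp [f, i0]
  have h7 : ∑ y, (if y ∈ orb T b then f y else 0) = 0 := by
    rw [← Finset.sum_filter, Finset.sum_nbij (t := Finset.univ) (g := fun i =>
      ZMod.stdAddChar (i * s)) idx (fun _ _ => Finset.mem_univ _) (by simpa using ibij.injOn)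
      (by simpa using ibij.surjOn) (fun y _ => by simp only [f, mul_comm]),
      AddChar.sum_mulShift s (ZMod.isPrimitive_stdAddChar p), if_neg hs, Nat.cast_zero]
  have h8 : ∀ y, (A ^ p) b y * f y = (A ^ p) b u * (if y ∈ orb T b then f y else 0) +
      if y = b then (A ^ p) b b - (A ^ p) b u else 0 := fun y => by
    by_cases e : y = b
    · rw [e, if_pos (mem_orb_self T b), if_pos rfl, h6]; ring
    rw [if_neg e, add_zero]
    by_cases e1 : y ∈ orb T b
    · obtain ⟨t, ht, e2, rfl⟩ := h2.two (mem_orb_self T b) hu (mem_orb_self T b) e1 hub.symm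
        (Ne.symm e)
      rw [if_pos e1, ← h1 p t ht b u, e2]
    · rw [if_neg e1, of_not_not fun e2 => e1 (orb_trans hzp (h3 p y e2)), zero_mul, mul_zero]
  have := h5 p b hb
  rw [h6, mul_one, Finset.sum_congr rfl fun y _ => h8 y, Finset.sum_add_distrib, ← Finset.mul_sum,
    h7] at this
  simpa using this.symm

namespace PSys

variable (c : Ctx G Ω p) (h : PSys a T p)
  (hΨ : ∀ x, x ≠ a → ∀ y, y ≠ a → (∀ t ∈ T, t • x = x → t • y = y) → y = x)
include c h hΨ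

theorem pfree {b : Ω} (hb : b ≠ a) {u : G} (e1 : u • a = a) (e2 : u • b = b) {k : ℕ}
    (hk : u ^ p ^ k = 1) : u = 1 := by
  have e3 := fix_all c.hp (h.card b hb) (g := u) (k := k) (fun y hy => e2 ▸ h.nrm.smul_mem e1 hy)
    (fun y _ => by rw [hk, one_smul]) (mem_orb_self T b) e2
  refine c.eq_one e1 fun x hx => hΨ x hx _ (smul_ne e1 hx) fun t ht e => smul_fix_of_comm ?_ e
  have := h.faith c hb (mul_mem (h.nrm.norm u e1 t ht) (inv_mem ht)) fun y hy => by
    rw [mul_smul, mul_smul, inv_smul_eq_iff.2 (e3 _ (smul_mem_orb (inv_mem ht) hy)).symm, mul_smul,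
      smul_inv_smul, e3 y hy]
  rwa [mul_inv_eq_one, mul_inv_eq_iff_eq_mul] at this

theorem not_dvd {b : Ω} (hb : b ≠ a) {H : Subgroup G} (hH : H ≤ stab2 G a b) : ¬ p ∣ Nat.card H := by
  have := Fact.mk c.hp
  intro e
  obtain ⟨u, hu⟩ := exists_prime_orderOf_dvd_card' p e
  have := h.pfree c hΨ hb (hH u.2).1 (hH u.2).2 (k := 1) (by
    rw [pow_one, ← hu, ← orderOf_coe, pow_orderOf_eq_one])
  rw [← orderOf_coe, this, orderOf_one] at hu
  exact c.hp.one_lt.ne hu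

theorem exists_P {b : Ω} (hb : b ≠ a) {q : G} (hq : q ∈ T) (oq : orderOf q = p) :
    ∃ P : Subgroup G, (∀ y ∈ P, y • a = a) ∧ q ∈ P ∧ (∀ x ∈ P, ∀ y ∈ P, x * y = y * x) ∧
      (∀ x, x ≠ a → ∃ g ∈ P, g • b = x) ∧ (∀ y ∈ P, y • b = b → y = 1) ∧
      ∀ y ∈ P, y ^ p ∈ zpowers q := by
  have := Fact.mk c.hp
  obtain ⟨P, hP⟩ := Invol.exists_sylow_mem (Invol.isPGroup_zpowers_of_pow_eq_one (p := p) (k := 1)
    (x := (⟨q, h.nrm.le q hq⟩ : stabilizer G a)) (Subtype.ext (show q ^ p ^ 1 = 1 by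
      rw [pow_one, ← oq, pow_orderOf_eq_one])))
  have e1 : p ^ 2 ∣ Nat.card ((P : Subgroup (stabilizer G a)).map (stabilizer G a).subtype) := by
    rw [card_map_of_injective (subtype_injective _), P.card_eq_multiplicity]
    exact pow_dvd_pow p ((c.hp.pow_dvd_iff_le_factorization Nat.card_pos.ne').1 (c.sq_dvd a))
  have e2 : ∀ y ∈ (P : Subgroup (stabilizer G a)).map (stabilizer G a).subtype, y • a = a := by
    rintro _ ⟨y, -, rfl⟩
    exact y.2
  have e3 : ∀ y ∈ (P : Subgroup (stabilizer G a)).map (stabilizer G a).subtype, y • b = b →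
      y = 1 := fun y hy e => by
    obtain ⟨k, hk⟩ := P.isPGroup'.map (stabilizer G a).subtype ⟨y, hy⟩
    exact h.pfree c hΨ hb (e2 y hy) e (congrArg Subtype.val hk)
  have e4 : q ∈ (P : Subgroup (stabilizer G a)).map (stabilizer G a).subtype := ⟨_, hP, rfl⟩
  generalize (P : Subgroup (stabilizer G a)).map (stabilizer G a).subtype = P at *
  have e5 := orb_card P b
  rw [show P ⊓ stabilizer G b = ⊥ from (eq_bot_iff_forall _).2 fun g hg => e3 g hg.1 hg.2,
    card_bot, mul_one] at e5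
  have e6 := Set.eq_of_subset_of_ncard_le (s := orb P b) (t := {a}ᶜ) (by
    rintro _ ⟨g, hg, rfl⟩
    exact smul_ne (e2 g hg) hb) (by rw [e5, c.ncard_compl]; exact Nat.le_of_dvd Nat.card_pos e1)
  rw [e6, c.ncard_compl] at e5
  have hab := IsPGroup.isMulCommutative_of_card_eq_prime_sq e5.symm
  refine ⟨P, e2, e4, fun g hg k hk => congrArg Subtype.val (hab.is_comm.comm ⟨g, hg⟩ ⟨k, hk⟩),
    fun x hx => (e6.symm ▸ hx : x ∈ orb P b), e3, fun y hy => ?_⟩
  have : ((zpowers q).subgroupOf P).Normal := ⟨fun u hu g => by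
    rwa [hab.is_comm.comm g u, mul_inv_cancel_right]⟩
  have e := pow_index_mem ((zpowers q).subgroupOf P) ⟨y, hy⟩
  have e7 := relIndex_mul_card_inf (zpowers q) P
  rw [inf_eq_left.2 (zpowers_le.2 e4), Nat.card_zpowers, oq, ← e5, sq] at e7
  rw [← relIndex, Nat.eq_of_mul_eq_mul_right c.hp.pos e7] at e
  exact e

theorem orb_q {q : G} (hq : q ∈ T) (oq : orderOf q = p) {x : Ω} (hx : x ≠ a) :
    orb (zpowers q) x = orb T x := by
  refine Set.eq_of_subset_of_ncard_le (by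
    rintro _ ⟨n, hn, rfl⟩; exact ⟨n, zpowers_le.2 hq hn, rfl⟩) ?_
  have := orb_card (zpowers q) x
  rw [show zpowers q ⊓ stabilizer G x = ⊥ from (eq_bot_iff_forall _).2 fun g hg =>
    h.pfree c hΨ hx (h.nrm.le g (zpowers_le.2 hq hg.1)) hg.2 (k := 1) (by
      obtain ⟨i, rfl⟩ := hg.1
      rw [pow_one, ← zpow_natCast, ← zpow_mul, mul_comm, zpow_mul, zpow_natCast, ← oq,
        pow_orderOf_eq_one, one_zpow]), card_bot, mul_one, Nat.card_zpowers, oq] at this
  rw [this, h.card x hx]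

theorem exists_e {b : Ω} (hb : b ≠ a) {q : G} (hq : q ∈ T) (oq : orderOf q = p) :
    ∃ e ∈ T, e • b = b ∧ e ∈ normalizer (zpowers q : Set G) ∧ e * q ≠ q * e := by
  have := Fact.mk c.hp
  have e1 := orb_card T b
  rw [h.card b hb] at e1
  have e2 : Nat.card (zpowers (⟨q, hq⟩ : T)) = p := by rw [Nat.card_zpowers, orderOf_mk, oq]
  have e3 := (zpowers (⟨q, hq⟩ : T)).card_mul_index
  rw [e2, ← e1] at e3
  let Q : Sylow p T := (IsPGroup.of_card (n := 1) (by rw [e2, pow_one])).toSylow (by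
    rw [Nat.eq_of_mul_eq_mul_left c.hp.pos e3]
    exact h.not_dvd c hΨ hb fun g hg => ⟨h.nrm.le g hg.1, hg.2⟩)
  have key : ∃ e ∈ T, e ∈ normalizer (zpowers q : Set G) ∧ e * q ≠ q * e := by
    by_contra e
    push Not at e
    have hN : normalizer ((Q : Subgroup T) : Set T) ≤ centralizer ((Q : Subgroup T) : Set T) := by
      rintro g hg _ ⟨i, rfl⟩
      refine (Commute.zpow_left (Subtype.ext (e g g.2 (mem_normalizer_fintype ?_)).symm) i).eq
      rintro _ ⟨j, rfl⟩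
      obtain ⟨k, hk⟩ := (mem_normalizer_iff.1 hg _).1 (show (⟨q, hq⟩ : T) ^ j ∈ Q from ⟨j, rfl⟩)
      exact ⟨k, congrArg Subtype.val hk⟩
    have e4 := MonoidHom.ker_transferSylow_isComplement' Q hN
    have e5 : (MonoidHom.transferSylow Q hN).ker = ⊤ := by
      have e1 : commutator T = ⊤ := by
        apply map_injective T.subtype_injective
        rw [commutator_def, map_commutator, ← MonoidHom.range_eq_map, range_subtype, h.perf]
      rw [eq_top_iff, ← e1]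
      refine commutator_le.2 fun g _ k _ => ?_
      rw [MonoidHom.mem_ker, map_commutatorElement, commutatorElement_eq_one_iff_mul_comm]
      exact Subtype.ext (hN (le_normalizer (MonoidHom.transferSylow Q hN k).2) _
        (MonoidHom.transferSylow Q hN g).2)
    have e6 := e4.card_mul
    rw [e5, card_top, show Nat.card Q = p from e2] at e6
    exact c.hp.one_lt.ne' (Nat.eq_of_mul_eq_mul_left Nat.card_pos (e6.trans (mul_one _).symm))
  obtain ⟨e, he, f1, f2⟩ := key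
  obtain ⟨n, hn, f3⟩ : e • b ∈ orb (zpowers q) b := h.orb_q c hΨ hq oq hb ▸ ⟨e, he, rfl⟩
  refine ⟨n⁻¹ * e, mul_mem (inv_mem (zpowers_le.2 hq hn)) he, by rw [mul_smul, ← f3, inv_smul_smul],
    mul_mem (inv_mem (le_normalizer hn)) f1, fun f4 => f2 ?_⟩
  obtain ⟨i, rfl⟩ := hn
  rw [mul_assoc, ← mul_assoc q, ((Commute.self_zpow q i).inv_right).eq, mul_assoc] at f4
  exact mul_left_cancel f4

theorem nofix : False := by
  classical
  have := Fact.mk c.hp
  obtain ⟨b, hb⟩ : ∃ b, b ≠ a := Set.nonempty_of_ncard_ne_zero (s := {a}ᶜ)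
    (by rw [c.ncard_compl]; exact (pow_pos c.hp.pos 2).ne')
  obtain ⟨⟨q, hq⟩, oq⟩ := exists_prime_orderOf_dvd_card' (G := T) p
    (by rw [← orb_card T b, h.card b hb]; exact Dvd.intro _ rfl)
  rw [orderOf_mk] at oq
  obtain ⟨P, p1, p2, p3, p4, p5, p6⟩ := h.exists_P c hΨ hb hq oq
  obtain ⟨e, he, eb, en, ec⟩ := h.exists_e c hΨ hb hq oq
  have ho := fun x hx => h.orb_q c hΨ hq oq (x := x) hx
  have ex : ∀ x, x ≠ a → ∀ y ∈ orb T x, ∃ n : ℕ, q ^ n • x = y := fun x hx y hy => by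
    obtain ⟨_, hn, rfl⟩ : y ∈ orb (zpowers q) x := ho x hx ▸ hy
    obtain ⟨n, rfl⟩ := mem_powers_iff_mem_zpowers.2 hn
    exact ⟨n, rfl⟩
  have castq : ∀ n m : ℕ, q ^ n = q ^ m ↔ (n : ZMod p) = m := fun n m => by
    rw [pow_eq_pow_iff_modEq, oq, ZMod.natCast_eq_natCast_iff]
  have uq : ∀ x, x ≠ a → ∀ n m : ℕ, q ^ n • x = q ^ m • x → (n : ZMod p) = m := fun x hx n m e1 => by
    obtain ⟨y, hy, rfl⟩ := p4 x hx
    have := p5 ((q ^ m * y)⁻¹ * (q ^ n * y)) (mul_mem (inv_mem (mul_mem (pow_mem p2 m) hy))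
      (mul_mem (pow_mem p2 n) hy)) (by rw [mul_smul, inv_smul_eq_iff, mul_smul, mul_smul, e1])
    exact (castq n m).1 (mul_right_cancel (inv_mul_eq_one.1 this)).symm
  have cent : ∀ t ∈ T, t * q = q * t → ∃ n : ℕ, q ^ n = t := fun t ht e1 => by
    obtain ⟨n, hn⟩ := ex b hb _ ⟨t, ht, rfl⟩
    refine ⟨n, inv_mul_eq_one.1 (h.faith c hb (mul_mem (inv_mem (pow_mem hq n)) ht) ?_)⟩
    rw [← ho b hb]
    refine fix_orb ?_ (by rw [mul_smul, ← hn, inv_smul_smul])
    rintro _ ⟨i, rfl⟩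
    exact (Commute.zpow_left (Commute.mul_right (Commute.self_pow q n).inv_right e1.symm) i).eq
  choose! ι hι using fun x hx => ex x hx (e • x) ⟨e, he, rfl⟩
  let idx : Ω → ZMod p := fun x => ι x
  have spec : ∀ x, x ≠ a → ∀ n : ℕ, q ^ n • x = e • x → idx x = n := fun x hx n e1 =>
    uq x hx _ _ ((hι x hx).trans e1.symm)
  have i0 : idx b = 0 := by simpa using spec b hb 0 (by rw [pow_zero, one_smul, eb])
  obtain ⟨ε, hε⟩ : ∃ ε : ℕ, q ^ ε = e * q * e⁻¹ :=
    mem_powers_iff_mem_zpowers.2 ((mem_normalizer_iff.1 en q).1 (mem_zpowers q))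
  have hεn : ∀ n : ℕ, e * q ^ n * e⁻¹ = q ^ (ε * n) := fun n => by rw [pow_mul, hε, conj_pow]
  have ε0 : (ε : ZMod p) ≠ 0 := fun e1 => by
    rw [(castq ε 0).2 (by simpa using e1), pow_zero, eq_comm, conj_eq_one_iff] at hε
    rw [hε, orderOf_one] at oq
    exact c.hp.one_lt.ne oq
  have ε1 : (ε : ZMod p) ≠ 1 := fun e1 => by
    rw [(castq ε 1).2 (by simpa using e1), pow_one, eq_mul_inv_iff_mul_eq] at hε
    exact ec hε.symm
  have iadd : ∀ g ∈ P, ∀ x, x ≠ a → idx (g • x) = idx x + idx (g • b) := fun g hg x hx => by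
    obtain ⟨n, hn⟩ := cent (e * g * e⁻¹ * g⁻¹) (by
      rw [mul_assoc, mul_assoc, ← mul_assoc g]
      exact mul_mem he (h.nrm.norm g (p1 g hg) _ (inv_mem he))) (by
      obtain ⟨i, hi⟩ := (mem_normalizer_iff.1 (inv_mem en) q).1 (mem_zpowers q)
      have e1 := p3 g hg _ (zpow_mem p2 i)
      rw [show q ^ i = e⁻¹ * q * e⁻¹⁻¹ from hi] at e1
      have e2 := p3 g⁻¹ (inv_mem hg) q p2
      calc e * g * e⁻¹ * g⁻¹ * q = e * (g * (e⁻¹ * q * e⁻¹⁻¹)) * e⁻¹ * g⁻¹ := by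
            rw [mul_assoc _ g⁻¹, e2]; group
        _ = _ := by rw [e1]; group)
    rw [spec _ (smul_ne (p1 g hg) hb) n (by
      rw [hn, mul_smul, inv_smul_smul, mul_smul, inv_smul_eq_iff.2 eb.symm, mul_smul]),
      spec _ (smul_ne (p1 g hg) hx) (n + ι x) (by
        rw [pow_add, mul_smul, ← mul_smul _ g, ← p3 g hg _ (pow_mem p2 _), mul_smul, hι x hx, hn,
          mul_smul, inv_smul_smul, mul_smul, inv_smul_smul, mul_smul]), Nat.cast_add, add_comm]
  have imul : ∀ x, x ≠ a → idx (e • x) = ε * idx x := fun x hx => by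
    rw [spec _ (smul_ne (h.nrm.le e he) hx) (ε * ι x) (by rw [← hεn, conj_smul, hι x hx]),
      Nat.cast_mul]
  have iq : ∀ x, x ≠ a → ∀ n : ℕ, idx (q ^ n • x) = idx x + (ε - 1) * n := fun x hx n => by
    rw [iadd _ (pow_mem p2 n) x hx]
    have := uq b hb (ι (q ^ n • b) + n) (ε * n) (by
      rw [pow_add, mul_smul, hι _ (smul_ne (p1 _ (pow_mem p2 n)) hb), ← hεn, ← conj_smul, eb])
    push_cast at this
    simp only [idx]
    linear_combination this
  have ibij : ∀ x, x ≠ a → Set.BijOn idx (orb T x) Set.univ := fun x hx =>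
    ⟨fun _ _ => trivial, fun y hy z hz e1 => by
      obtain ⟨n, rfl⟩ := ex x hx y hy
      obtain ⟨m, rfl⟩ := ex x hx z hz
      rw [iq x hx, iq x hx] at e1
      rw [(castq n m).2 (mul_left_cancel₀ (sub_ne_zero.2 ε1) (add_left_cancel e1))],
    fun i _ => ⟨_, ⟨q ^ ((i - idx x) / (ε - 1)).val, pow_mem hq _, rfl⟩, by
      rw [iq x hx, ZMod.natCast_zmod_val, mul_div_cancel₀ _ (sub_ne_zero.2 ε1)]; ring⟩⟩
  obtain ⟨z, hz, hzB⟩ : ∃ z, z ≠ a ∧ z ∉ orb T b := by
    by_contra e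
    push Not at e
    have := Set.ncard_le_ncard (s := {a}ᶜ) (t := orb T b) e
    rw [c.ncard_compl, h.card b hb] at this
    nlinarith [c.hp.two_le]
  obtain ⟨y₀, hy₀, rfl⟩ := p4 z hz
  let Γ : Ω → Ω → Prop := fun x y => ∃ t ∈ T, ∃ g ∈ P, t • g • b = x ∧ t • g • y₀ • b = y
  have inv1 : ∀ k ∈ T, ∀ x y, Γ x y → Γ (k • x) (k • y) := by
    rintro k hk _ _ ⟨t, ht, g, hg, rfl, rfl⟩
    exact ⟨k * t, mul_mem hk ht, g, hg, mul_smul _ _ _, mul_smul _ _ _⟩
  have inv2 : ∀ k ∈ P, ∀ x y, Γ x y → Γ (k • x) (k • y) := by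
    rintro k hk _ _ ⟨t, ht, g, hg, rfl, rfl⟩
    exact ⟨_, h.nrm.norm k (p1 k hk) t ht, k * g, mul_mem hk hg, by rw [mul_smul k g, conj_smul],
      by rw [mul_smul k g, conj_smul]⟩
  have hS : ∀ x, x ∈ (Set.toFinite (orb (T ⊓ stabilizer G b) (y₀ • b))).toFinset ↔ Γ b x := by
    intro x
    rw [Set.Finite.mem_toFinset]
    constructor
    · rintro ⟨t, ht, rfl⟩
      exact ⟨t, ht.1, 1, one_mem _, by rw [one_smul]; exact ht.2, by rw [one_smul]⟩
    · rintro ⟨t, ht, g, hg, e1, rfl⟩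
      obtain ⟨n, hn⟩ := ex b hb (g • b) (orb_symm ⟨t, ht, e1⟩)
      have : g = q ^ n := inv_mul_eq_one.1 (p5 _ (mul_mem (inv_mem hg) (pow_mem p2 n))
        (by rw [mul_smul, hn, inv_smul_smul]))
      exact ⟨t * g, ⟨mul_mem ht (this ▸ pow_mem hq n), (mul_smul _ _ _).trans e1⟩, mul_smul _ _ _⟩
  obtain ⟨w, hw⟩ := walk hb (fun g hg x y => ⟨fun e => by simpa using inv1 _ (inv_mem hg) _ _ e,
    inv1 g hg x y⟩) (fun g hg x y => ⟨fun e => by simpa using inv2 _ (inv_mem hg) _ _ e,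
    inv2 g hg x y⟩) (by
      rintro _ _ ⟨t, ht, g, hg, -, rfl⟩
      exact smul_ne (h.nrm.le t ht) (smul_ne (p1 g hg) hz)) p4 (z := fun m => y₀ ^ m • b)
    (by simp) (by
      rintro m _ _ hx ⟨t, ht, g, hg, rfl, rfl⟩
      have := h.nrm.smul_mem (p1 y₀ hy₀) (orb_trans hx (orb_symm ⟨t, ht, rfl⟩))
      rw [← mul_smul, ← mul_smul, ← pow_succ', p3 y₀ hy₀ g hg, mul_smul] at this
      exact smul_mem_orb ht this) ⟨_, zpowers_le.2 hq (p6 y₀ hy₀), rfl⟩ (h.tt c hb).1 i0 iadd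
    (ibij b hb) hS
  have sub : orb (T ⊓ stabilizer G b) (y₀ • b) ⊆ orb T (y₀ • b) := by
    rintro _ ⟨t, ht, rfl⟩
    exact ⟨t, ht.1, rfl⟩
  have inj := (ibij _ hz).injOn
  rcases cyc (ψ := ZMod.stdAddChar) (fun e1 => one_ne_zero
      (((ZMod.isPrimitive_stdAddChar p).zmod_char_eq_one_iff p 1).1 e1))
      ((Set.toFinite (orb (T ⊓ stabilizer G b) (y₀ • b))).toFinset.image idx) ε0 ε1 (fun d hd => by
        obtain ⟨x, hx, rfl⟩ := Finset.mem_image.1 hd
        rw [Set.Finite.mem_toFinset] at hx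
        exact Finset.mem_image.2 ⟨e • x, (Set.Finite.mem_toFinset _).2 (smul_mem_orb ⟨he, eb⟩ hx),
          imul x (h.nrm.ne_of_mem hz (sub hx))⟩) (x := w) (fun s hs => by
        rw [Finset.sum_image fun x hx y hy e1 => inj (sub ((Set.Finite.mem_toFinset _).1 hx))
          (sub ((Set.Finite.mem_toFinset _).1 hy)) e1, hw s hs]) with e1 | e1
  · have key : ∀ x ∈ orb (T ⊓ stabilizer G b) (y₀ • b), idx x = 0 := fun x hx =>
      e1 _ (Finset.mem_image_of_mem _ ((Set.Finite.mem_toFinset _).2 hx))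
    refine hzB ?_
    rw [hΨ b hb _ hz fun t ht e2 => inj ⟨t, ht, rfl⟩ (mem_orb_self T _) (by
      rw [key _ ⟨t, ⟨ht, e2⟩, rfl⟩, key _ (mem_orb_self _ _)])]
    exact mem_orb_self T b
  · have key : ∀ x ∈ orb T (y₀ • b), idx x ≠ 0 → x ∈ orb (T ⊓ stabilizer G b) (y₀ • b) :=
      fun x hx e2 => by
        obtain ⟨y, hy, e3⟩ := Finset.mem_image.1 (e1 _ e2)
        rw [Set.Finite.mem_toFinset] at hy
        exact inj (sub hy) hx e3 ▸ hy
    obtain ⟨z, hz1, hz2⟩ := (ibij _ hz).surjOn (Set.mem_univ (0 : ZMod p))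
    by_cases e2 : z ∈ orb (T ⊓ stabilizer G b) (y₀ • b)
    · refine h.not_dvd c hΨ hb (H := T ⊓ stabilizer G b) (fun g hg => ⟨h.nrm.le g hg.1, hg.2⟩) ?_
      rw [← orb_card _ (y₀ • b), Set.Subset.antisymm sub fun x hx => by
        by_cases e3 : idx x = 0
        exacts [inj hz1 hx (hz2.trans e3.symm) ▸ e2, key x hx e3], h.card _ hz]
      exact Dvd.intro _ rfl
    · have := hΨ b hb z (h.nrm.ne_of_mem hz hz1) fun t ht e3 => inj (smul_mem_orb ht hz1) hz1 (by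
        rw [hz2]
        by_contra e4
        have := smul_mem_orb (inv_mem (show t ∈ T ⊓ stabilizer G b from ⟨ht, e3⟩))
          (key _ (smul_mem_orb ht hz1) e4)
        rw [inv_smul_smul] at this
        exact e2 this)
      exact hzB (orb_symm (this ▸ hz1))

end PSys

theorem Ctx.main (c : Ctx G Ω p) {B : Set Ω} (h : Blk G a B) (hB : B.ncard = p) :
    p = 2 ∧ Nat.card G = 20 := by
  obtain ⟨b, hb⟩ : B.Nonempty := Set.nonempty_of_ncard_ne_zero (hB ▸ c.hp.pos.ne')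
  obtain ⟨T, -, hT | hT⟩ := c.dich h hB hb
  · exact hT.final c
  by_cases e : ∀ x, x ≠ a → ∀ y, y ≠ a → (∀ t ∈ T, t • x = x → t • y = y) → y = x
  · exact (hT.nofix c e).elim
  push Not at e
  obtain ⟨x, hx, y, hy, e1, e2⟩ := e
  have hΨ := hT.nrm.blk_fix c.hp.pos hT.card hx
  obtain ⟨z, hz, e3⟩ := Set.exists_ne_of_one_lt_ncard (s := orb T x) (hT.card x hx ▸ c.hp.one_lt) x
  obtain ⟨t, ht, e4, e5⟩ := hT.moves c hx hz e3
  obtain ⟨T', e6, hT' | hT'⟩ := c.dich hΨ (c.blk_card hΨ ((Set.one_lt_ncard (Set.toFinite _)).2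
    ⟨y, ⟨hy, e1⟩, x, ⟨hx, fun _ _ e => e⟩, e2⟩) (hT.nrm.ne_of_mem hx hz) fun e => e5 (e.2 t ht e4))
    (b := x) ⟨hx, fun _ _ e => e⟩
  · exact hT'.final c
  · exact (hT.grid c hT' hx fun w hw => (e6.le hw).2).elim

end CfsgLib.Atk
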